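import Groth.Agent.Et18.TraceZero.Main
import Groth.Agent.Et18.FLC

/-!
# Stalks of constructible sheaves of modules, extension by zero along the identity
-/

set_option autoImplicit false
set_option linter.all false
set_option backward.isDefEq.respectTransparency.types false
set_option backward.isDefEq.respectTransparency false
set_option maxHeartbeats 1000000

universe u

open CategoryTheory CategoryTheory.Limits AlgebraicGeometry Opposite

namespace Groth.Agent.Et18.TraceZero

variable {X : Scheme.{u}}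

theorem isFLC_of_isFTLC {Λ : Type} [CommRing Λ] [Finite Λ] {L : EtLam.Sheaf Λ X} (h : EtLam.IsFTLC L) :
    EtCoh.IsFiniteLocallyConstant L.carrier := by
  obtain ⟨ι, U, hU, hM⟩ := h
  refine ⟨ι, U, hU, fun i => ?_⟩
  obtain ⟨M, _, _, _, e, -⟩ := hM i
  haveI : Finite M := Module.finite_of_finite Λ
  exact ⟨M, inferInstance, inferInstance, ⟨e⟩⟩

theorem finite_stalk_of_constructible {Λ : Type} [CommRing Λ] [Finite Λ] {L : EtLam.Sheaf Λ X}
    (hL : EtLam.IsConstructible L) {Ω : Type u} [Field Ω] [IsSepClosed Ω]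
    (ξ : Spec (CommRingCat.of Ω) ⟶ X) : Finite ((EtCoh.stalk ξ).obj L.carrier) := by
  obtain ⟨U, hU, hxU, -⟩ := exists_isAffineOpen_mem_and_subset (X := X) (x := ξ default) (U := ⊤) trivial
  obtain ⟨n, T, g, hg, -, -, hu, hF⟩ := hL U hU
  obtain ⟨i, t, ht⟩ := Set.mem_iUnion.mp (hu.symm ▸ hxU : ξ default ∈ ⋃ i, Set.range (g i))
  haveI := hg i
  obtain ⟨⟨y, φ⟩, hφ⟩ := (Scheme.SpecToEquivOfField Ω X).symm.surjective ξ
  change Spec.map φ ≫ X.fromSpecResidueField y = ξ at hφ
  have hy : g i t = y := by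
    rw [ht, ← hφ, Scheme.Hom.comp_apply, Scheme.fromSpecResidueField_apply]
  subst hy
  haveI : IsIso ((g i).residueFieldMap t) := by
    rw [ConcreteCategory.isIso_iff_bijective]
    refine ⟨((g i).residueFieldMap t).hom.injective, fun z => ?_⟩
    obtain ⟨w, rfl⟩ := (T i).residue_surjective t z
    obtain ⟨w', rfl⟩ := (g i).stalkMap_surjective t w
    exact ⟨X.residue (g i t) w', ConcreteCategory.congr_hom (Scheme.residue_residueFieldMap (g i) t) w'⟩
  let ξ' := Spec.map φ ≫ inv (Spec.map ((g i).residueFieldMap t)) ≫ (T i).fromSpecResidueField t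
  have hξ : ξ' ≫ g i = ξ := by
    simp only [ξ', Category.assoc, ← (g i).SpecMap_residueFieldMap_fromSpecResidueField t,
      IsIso.inv_hom_id_assoc, hφ]
  have hfin : Finite ((EtCoh.stalk ξ').obj ((EtCoh.pull (g i)).obj L.carrier)) :=
    finite_stalk (isFLC_of_isFTLC (hF i)) ξ'
  exact @Finite.of_injective _ _ hfin _ (H0Lift.bijective_toPull (g i) ⟨ξ', hξ⟩ L.carrier).1

/-- Composition with the identity is the identity of the site. -/
noncomputable def compEtaleIdIso (X : Scheme.{u}) : EtShriek.compEtale (𝟙 X) ≅ 𝟭 X.Etale :=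
  NatIso.ofComponents (fun A => MorphismProperty.Over.isoMk (Iso.refl A.left)
      ((Category.id_comp A.hom).trans (Category.comp_id A.hom).symm))
    (fun {A B} q => (Scheme.Etale.forget X ⋙ CategoryTheory.Over.forget X).map_injective
      (show q.left ≫ 𝟙 B.left = 𝟙 A.left ≫ q.left from (Category.comp_id _).trans (Category.id_comp _).symm))

/-- `j_!` along the identity. -/
noncomputable def extZeroIdIso (X : Scheme.{u}) [EtShriek.JCont (𝟙 X)] :
    EtShriek.extZero (𝟙 X) ≅ 𝟭 (EtCoh.Ab X) :=
  Adjunction.leftAdjointUniq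
    ((EtShriek.extZeroAdj (𝟙 X)).ofNatIsoRight
      (Functor.sheafPushforwardContinuousId' (compEtaleIdIso X) AddCommGrpCat.{u + 1} X.smallEtaleTopology))
    Adjunction.id

end Groth.Agent.Et18.TraceZero
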