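import Groth.Agent.Et18.H0Lift.Germs
import Groth.Agent.Et18.FlatTrace.Compose
import Groth.Agent.Et18.HpullComp
import Groth.Agent.EtZeroDim.Basic

/-!
# Germs of classes of degree zero
-/

set_option autoImplicit false
set_option linter.all false
set_option backward.isDefEq.respectTransparency.types false
set_option backward.isDefEq.respectTransparency false
set_option synthInstance.maxHeartbeats 400000
set_option maxHeartbeats 1000000

universe u

open CategoryTheory CategoryTheory.Limits CategoryTheory.Abelian AlgebraicGeometry Opposite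
open Groth.Agent.EtLimit Groth.Agent.Et18.H0Lift

namespace Groth.Agent.Et18.TraceZero

variable {X Y : Scheme.{u}} {Ω : Type u} [Field Ω] [IsSepClosed Ω]

theorem secOf_eq {F : EtCoh.Ab X} (g : EtCoh.const X ℤ ⟶ F) :
    secOf g = g.hom.app (op (EtCoh.top X)) (secOf (𝟙 (EtCoh.const X ℤ))) := by
  conv_lhs => rw [← Category.id_comp g]
  rw [secOf, secOf, (EtCore.constAdj X).homEquiv_naturality_right]
  rfl

/-- The section of a class of degree zero. -/
noncomputable def secH (M : EtCoh.Ab X) : EtCoh.H X M 0 →+ M.obj.obj (op (EtCoh.top X)) :=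
  AddMonoidHom.mk'
    (fun x => (Ext.addEquiv₀ x).hom.app (op (EtCoh.top X)) (secOf (𝟙 (EtCoh.const X ℤ))))
    (fun x y => by rw [map_add]; rfl)

theorem secH_mk₀ {M : EtCoh.Ab X} (g : EtCoh.const X ℤ ⟶ M) : secH M (Ext.mk₀ g) = secOf g := by
  rw [secOf_eq g]
  exact congrArg (fun k : EtCoh.const X ℤ ⟶ M => k.hom.app (op (EtCoh.top X)) (secOf (𝟙 (EtCoh.const X ℤ))))
    (Ext.addEquiv₀.apply_symm_apply g)

theorem secH_bijective (M : EtCoh.Ab X) : Function.Bijective (secH M) := by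
  constructor
  · intro x y h
    obtain ⟨g, rfl⟩ := exists_eq_mk₀ x
    obtain ⟨g', rfl⟩ := exists_eq_mk₀ y
    rw [secH_mk₀, secH_mk₀] at h
    rw [secOf_injective h]
  · intro s
    obtain ⟨g, hg⟩ := exists_secOf s
    exact ⟨Ext.mk₀ g, (secH_mk₀ g).trans hg⟩

/-- The germ of a class of degree zero at a geometric point. -/
noncomputable def gev (η : Spec (CommRingCat.of Ω) ⟶ X) (M : EtCoh.Ab X) :
    EtCoh.H X M 0 →+ (EtCoh.stalk η).obj M :=
  ((Scheme.pointSmallEtale η).toPresheafFiber (EtCoh.top X) (topPt η) M.obj).hom.comp (secH M)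

theorem gev_mk₀ (η : Spec (CommRingCat.of Ω) ⟶ X) {M : EtCoh.Ab X} (g : EtCoh.const X ℤ ⟶ M) :
    gev η M (Ext.mk₀ g) = gm M η (EtCoh.top X) (topPt η) (secOf g) :=
  congrArg ((Scheme.pointSmallEtale η).toPresheafFiber (EtCoh.top X) (topPt η) M.obj) (secH_mk₀ g)

theorem gev_map (η : Spec (CommRingCat.of Ω) ⟶ X) {M M' : EtCoh.Ab X} (a : M ⟶ M') (x : EtCoh.H X M 0) :
    gev η M' (Sheaf.H.map a 0 x) = (EtCoh.stalk η).map a (gev η M x) := by
  obtain ⟨g, rfl⟩ := exists_eq_mk₀ x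
  have h : Sheaf.H.map a 0 (Ext.mk₀ g) = Ext.mk₀ (g ≫ a) := Ext.mk₀_comp_mk₀ _ _
  rw [h, gev_mk₀, gev_mk₀, gm_hom]
  congr 1

theorem gev_Hpull (f : X ⟶ Y) [PreservesFiniteLimits (EtCoh.pull f)] (M : EtCoh.Ab Y)
    (ξ : Spec (CommRingCat.of Ω) ⟶ X) {η : Spec (CommRingCat.of Ω) ⟶ Y} (h : ξ ≫ f = η)
    (x : EtCoh.H Y M 0) :
    gev ξ _ (EtCore.Hpull f M 0 x) = toPull f η ⟨ξ, h⟩ M (gev η M x) := by
  obtain ⟨g, rfl⟩ := exists_eq_mk₀ x
  rw [HpullComp.Hpull_eq_hPull, extPull_mk₀, gev_mk₀, gev_mk₀, HpullComp.secOf_pull_id, gm_map]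
  refine Eq.trans ?_ (gm_unit f ⟨ξ, h⟩ M (EtCoh.top Y) (topPt η) (secOf g))
  refine congrArg (fun v => gm ((EtCoh.pull f).obj M) ξ ((EtCoh.bc f).obj (EtCoh.top Y)) v
    (((EtCoh.pullPushAdj f).unit.app M).hom.app (op (EtCoh.top Y)) (secOf g))) ?_
  exact (bcLiftEquiv f η ⟨ξ, h⟩ (EtCoh.top Y)).symm.injective (fibre_eq (EtCoh.top Y) _ _)

theorem gev_HpullVia {Z : Scheme.{u}} (f : X ⟶ Y) (t : Y ⟶ Z) (f₀ : X ⟶ Z) (w : f ≫ t = f₀)
    [PreservesFiniteLimits (EtCoh.pull f)] (G : EtCoh.Ab Z) (ξ : Spec (CommRingCat.of Ω) ⟶ X)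
    {η₁ : Spec (CommRingCat.of Ω) ⟶ Y} {η : Spec (CommRingCat.of Ω) ⟶ Z}
    (ha : ξ ≫ f = η₁) (hb : η₁ ≫ t = η) (hc : ξ ≫ f₀ = η) (x : EtCoh.H Y ((EtCoh.pull t).obj G) 0)
    (e : (EtCoh.stalk η).obj G) (he : gev η₁ _ x = toPull t η ⟨η₁, hb⟩ G e) :
    gev ξ _ (EtCore.HpullVia f t f₀ w G 0 x) = toPull f₀ η ⟨ξ, hc⟩ G e := by
  refine (gev_map ξ _ (EtCore.Hpull f _ 0 x)).trans ?_
  rw [gev_Hpull f _ ξ ha, he]
  have hab : ξ ≫ f ≫ t = η := (congrArg (ξ ≫ ·) w).trans hc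
  rw [Iso.app_hom, Iso.trans_hom, NatTrans.comp_app, Iso.symm_hom, Functor.map_comp]
  refine (ConcreteCategory.comp_apply _ _ _).trans ?_
  refine Eq.trans (congrArg ((EtCoh.stalk ξ).map ((EtCore.pullCongr w).hom.app G))
    (FlatTrace.stalk_pullComp_inv f t G ξ ha hb hab e)) ?_
  exact FlatTrace.stalk_pullCongr w G ξ hab hc e

theorem gev_eq_zero_iff (η : Spec (CommRingCat.of Ω) ⟶ X) (M : EtCoh.Ab X) (x : EtCoh.H X M 0) :
    gev η M x = 0 ↔ η default ∉ EtShriek.sectSupp M (EtCoh.top X) (secH M x) :=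
  ⟨not_mem_sectSupp_of_germ_eq_zero M η (EtCoh.top X) _ (topPt η),
    germ_eq_zero_of_not_mem_sectSupp M η (EtCoh.top X) _ (topPt η)⟩

theorem gev_eq_zero_congr {Ω' : Type u} [Field Ω'] [IsSepClosed Ω'] (η : Spec (CommRingCat.of Ω) ⟶ X)
    (η' : Spec (CommRingCat.of Ω') ⟶ X) (h : η default = η' default) (M : EtCoh.Ab X) (x : EtCoh.H X M 0) :
    gev η M x = 0 ↔ gev η' M x = 0 := by
  rw [gev_eq_zero_iff, gev_eq_zero_iff, h]

/-- A class with all germs zero is zero. -/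
theorem eq_zero_of_gev (M : EtCoh.Ab X) (η : X → (Spec (CommRingCat.of Ω) ⟶ X)) (hη : ∀ y, η y default = y)
    (x : EtCoh.H X M 0) (h : ∀ y, gev (η y) M x = 0) : x = 0 := by
  refine (secH_bijective M).1 (Eq.trans ?_ (map_zero _).symm)
  refine eq_zero_of_sectSupp_eq_empty M (EtCoh.top X) _ (Set.eq_empty_iff_forall_notMem.2 fun y => ?_)
  have := (gev_eq_zero_iff _ _ _).1 (h y)
  rwa [hη] at this

/-- On a scheme isomorphic to the spectrum of a separably closed field the germ map is bijective. -/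
theorem gev_bijective (η : Spec (CommRingCat.of Ω) ⟶ X) [IsIso η] (M : EtCoh.Ab X) :
    Function.Bijective (gev η M) := by
  constructor
  · refine (injective_iff_map_eq_zero _).2 fun x hx => ?_
    refine eq_zero_of_gev M (fun _ => η) (fun y => ?_) x fun _ => hx
    have : (inv η ≫ η) y = y := by rw [IsIso.inv_hom_id]; rfl
    exact (congrArg η (Unique.default_eq ((inv η) y))).trans this
  · intro z
    obtain ⟨U, v, s, rfl⟩ := (Scheme.pointSmallEtale η).toPresheafFiber_jointly_surjective z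
    let vl : Spec (CommRingCat.of Ω) ⟶ U.left := v.left
    have hw : (inv η ≫ vl) ≫ U.hom = 𝟙 X := by
      rw [Category.assoc, show vl ≫ U.hom = η from Over.w v, IsIso.inv_hom_id]
    let a : EtCoh.top X ⟶ U := MorphismProperty.Over.homMk (inv η ≫ vl) hw
    obtain ⟨x, hx⟩ := (secH_bijective M).2 (M.obj.map a.op s)
    refine ⟨x, (congrArg ((Scheme.pointSmallEtale η).toPresheafFiber (EtCoh.top X) (topPt η) M.obj) hx).trans
      ((gm_map M η a (topPt η) s).trans ?_)⟩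
    refine congrArg (fun v' => gm M η U v' s) (Over.OverMorphism.ext ?_)
    exact (IsIso.hom_inv_id_assoc η vl)

/-- On a discrete affine scheme with separably closed residue fields germs can be prescribed at one point. -/
theorem exists_gev_eq [IsAffine X] [DiscreteTopology X] (h2 : ∀ y : X, IsSepClosed (X.residueField y))
    (η : Spec (CommRingCat.of Ω) ⟶ X) (M : EtCoh.Ab X) (z : (EtCoh.stalk η).obj M) :
    ∃ x : EtCoh.H X M 0, gev η M x = z ∧
      ∀ (η' : Spec (CommRingCat.of Ω) ⟶ X), η' default ≠ η default → gev η' M x = 0 := by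
  classical
  obtain ⟨U, v, s, rfl⟩ := (Scheme.pointSmallEtale η).toPresheafFiber_jointly_surjective z
  haveI : Etale U.hom := U.prop
  obtain ⟨O, hwO, hO⟩ := EtZeroDim.exists_openImmersion_nhd (S := X) (fun y => isClosed_discrete _) h2 U.hom
    (fiberPt v)
  let y := η default
  let Wy : (EtCoh.top X).left.Opens := ⟨{y}, isOpen_discrete (α := X) _⟩
  let Wn : (EtCoh.top X).left.Opens := ⟨{y}ᶜ, isOpen_discrete (α := X) _⟩
  have hr : Set.range Wy.ι ⊆ Set.range (O.ι ≫ U.hom) := by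
    rw [Scheme.Opens.range_ι]
    rintro a (rfl : a = y)
    exact ⟨⟨fiberPt v, hwO⟩, hom_fiberPt v⟩
  let l := IsOpenImmersion.lift (O.ι ≫ U.hom) Wy.ι hr
  let a : etalePiece (EtCoh.top X) Wy ⟶ U := MorphismProperty.Over.homMk (l ≫ O.ι)
    ((Category.assoc _ _ _).trans ((IsOpenImmersion.lift_fac _ _ hr).trans (Category.comp_id _).symm))
  let W : ULift.{u} Bool → (EtCoh.top X).left.Opens := fun b => cond b.down Wy Wn
  let x₀ : ∀ b, M.obj.obj (op (etalePiece (EtCoh.top X) (W b))) := fun b => match b with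
    | ⟨true⟩ => M.obj.map a.op s
    | ⟨false⟩ => (0 : M.obj.obj (op (etalePiece (EtCoh.top X) Wn)))
  obtain ⟨t, ht⟩ : ∃ t : M.obj.obj (op (EtCoh.top X)),
      ∀ b, M.obj.map (etalePieceHom (EtCoh.top X) (W b)).op t = x₀ b := exists_glue_etalePieces
    ((isSheaf_iff_isSheaf_of_type _ _).mp ((sheafCompose _ (forget AddCommGrpCat.{u + 1})).obj M).property)
    (EtCoh.top X) W
    (by
      rintro ⟨b⟩ ⟨b'⟩ hne
      rw [← TopologicalSpace.Opens.coe_disjoint]
      cases b <;> cases b' <;> simp_all [W, Wy, Wn])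
    (eq_top_iff.2 fun q _ => TopologicalSpace.Opens.mem_iSup.2 (by
      by_cases hq : q = y
      · exact ⟨⟨true⟩, hq⟩
      · exact ⟨⟨false⟩, hq⟩))
    x₀
  obtain ⟨x, hx⟩ := (secH_bijective M).2 t
  have key : ∀ (η' : Spec (CommRingCat.of Ω) ⟶ X) (b : ULift.{u} Bool), η' default ∈ W b →
      ∃ v' : (Scheme.pointSmallEtale η').fiber.obj (etalePiece (EtCoh.top X) (W b)),
        gev η' M x = gm M η' _ v' (M.obj.map (etalePieceHom (EtCoh.top X) (W b)).op t) := by
    intro η' b hb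
    have hr' : Set.range η' ⊆ Set.range (W b).ι := by
      rw [Scheme.Opens.range_ι]
      rintro _ ⟨q, rfl⟩
      rwa [Unique.eq_default q]
    let v' : (Scheme.pointSmallEtale η').fiber.obj (etalePiece (EtCoh.top X) (W b)) :=
      Over.homMk (IsOpenImmersion.lift (W b).ι η' hr')
        ((congrArg (_ ≫ ·) (Category.comp_id _)).trans (IsOpenImmersion.lift_fac _ _ hr'))
    refine ⟨v', ?_⟩
    refine Eq.symm ((gm_map M η' (etalePieceHom (EtCoh.top X) (W b)) v' t).trans ?_)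
    refine (congrArg (fun q => gm M η' (EtCoh.top X) q t) (fibre_eq (EtCoh.top X) _ (topPt η'))).trans ?_
    rw [← hx]
    rfl
  refine ⟨x, ?_, fun η' hη' => ?_⟩
  · obtain ⟨v', hv'⟩ := key η ⟨true⟩ rfl
    rw [hv', ht ⟨true⟩]
    refine (gm_map M η a v' s).trans (congrArg (fun q => gm M η U q s) (Over.OverMorphism.ext ?_))
    let vl : Spec (CommRingCat.of Ω) ⟶ U.left := v.left
    have hr2 : Set.range vl ⊆ Set.range O.ι := by
      rw [Scheme.Opens.range_ι]
      rintro _ ⟨q, rfl⟩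
      rw [Unique.eq_default q]; exact hwO
    let v₀ : Spec (CommRingCat.of Ω) ⟶ (O : Scheme.{u}) := IsOpenImmersion.lift O.ι vl hr2
    let w₀ : Spec (CommRingCat.of Ω) ⟶ (O : Scheme.{u}) := v'.left ≫ l
    show v'.left ≫ l ≫ O.ι = vl
    have e : w₀ = v₀ := by
      rw [← cancel_mono (O.ι ≫ U.hom)]
      refine Eq.trans ?_ (((IsOpenImmersion.lift_fac_assoc _ _ hr2 U.hom)).trans (Over.w v)).symm
      refine (Category.assoc _ _ _).trans ?_
      refine (congrArg (v'.left ≫ ·) (IsOpenImmersion.lift_fac _ _ hr)).trans ?_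
      exact (congrArg (v'.left ≫ ·) (Category.comp_id _).symm).trans (Over.w v')
    rw [← Category.assoc]
    exact (congrArg (· ≫ O.ι) e).trans (IsOpenImmersion.lift_fac _ _ hr2)
  · obtain ⟨v', hv'⟩ := key η' ⟨false⟩ hη'
    rw [hv', ht ⟨false⟩]
    exact map_zero _

end Groth.Agent.Et18.TraceZero
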