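import Groth.Prelude.Def_FinFr
import Mathlib.AlgebraicGeometry.AlgClosed.Basic
import Mathlib.AlgebraicGeometry.Morphisms.Flat
import Mathlib.AlgebraicGeometry.Morphisms.QuasiFinite
import Mathlib.FieldTheory.IsSepClosed

/-!
# Geometric points of a finite scheme over a finite field and the Frobenius action on them
-/

set_option autoImplicit false
set_option linter.all false
set_option backward.isDefEq.respectTransparency.types false
set_option backward.isDefEq.respectTransparency false
set_option maxHeartbeats 1000000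

universe u

open CategoryTheory CategoryTheory.Limits AlgebraicGeometry

namespace Groth.Agent.Et18.TraceZero

variable {k K : Type u} [Field k] [Field K] [Algebra k K] [IsAlgClosed K]
  {X₀ : Scheme.{u}} (a : X₀ ⟶ Spec (CommRingCat.of k)) [IsFinite a]

instance isFinite_extStr : IsFinite (FinFr.extStr K a) :=
  MorphismProperty.pullback_snd (P := @IsFinite) a (FinFr.specι k K) inferInstance

instance isAffine_ext : IsAffine (FinFr.ext K a) := isAffine_of_isAffineHom (FinFr.extStr K a)

instance discrete_ext : DiscreteTopology (FinFr.ext K a) := by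
  refine discreteTopology_iff_isOpen_singleton.2 fun z => ?_
  have h := (FinFr.extStr K a).isDiscrete_preimage_singleton ((FinFr.extStr K a) z)
  have e : FinFr.extStr K a ⁻¹' {FinFr.extStr K a z} = Set.univ :=
    Set.eq_univ_of_forall fun v => Subsingleton.elim _ _
  rw [e] at h
  haveI := isDiscrete_univ_iff.1 h
  exact isOpen_discrete _

instance finite_ext : Finite (FinFr.ext K a) := finite_of_compact_of_discrete

/-- The `K`-point at a point. -/
noncomputable def pt (y : FinFr.ext K a) : Spec (CommRingCat.of K) ⟶ FinFr.ext K a :=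
  ((pointEquivClosedPoint (FinFr.extStr K a)).symm ⟨y, isClosed_discrete _⟩).1

theorem pt_str (y : FinFr.ext K a) : pt a y ≫ FinFr.extStr K a = 𝟙 _ :=
  ((pointEquivClosedPoint (FinFr.extStr K a)).symm ⟨y, isClosed_discrete _⟩).2

theorem pt_default (y : FinFr.ext K a) : pt a y default = y := by
  have h := congrArg Subtype.val ((pointEquivClosedPoint (FinFr.extStr K a)).apply_symm_apply ⟨y, isClosed_discrete _⟩)
  exact (congrArg (pt a y) (Subsingleton.elim _ _)).trans h

theorem eq_pt (p : Spec (CommRingCat.of K) ⟶ FinFr.ext K a) (hp : p ≫ FinFr.extStr K a = 𝟙 _) :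
    p = pt a (p default) := by
  have h : (pointEquivClosedPoint (FinFr.extStr K a)) ⟨p, hp⟩ = ⟨p default, isClosed_discrete _⟩ :=
    Subtype.ext (congrArg p (Subsingleton.elim _ _))
  have h2 := congrArg (pointEquivClosedPoint (FinFr.extStr K a)).symm h
  rw [Equiv.symm_apply_apply] at h2
  exact congrArg Subtype.val h2

theorem isSepClosed_residueField (y : FinFr.ext K a) : IsSepClosed ((FinFr.ext K a).residueField y) := by
  obtain ⟨⟨x, φ⟩, hφ⟩ := (Scheme.SpecToEquivOfField K (FinFr.ext K a)).symm.surjective (pt a y)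
  change Spec.map φ ≫ (FinFr.ext K a).fromSpecResidueField x = pt a y at hφ
  have hx : x = y := by
    refine Eq.trans ?_ (pt_default a y)
    rw [← hφ, Scheme.Hom.comp_apply, Scheme.fromSpecResidueField_apply]
  subst hx
  obtain ⟨ψ, hψ⟩ : ∃ ψ, Spec.map ψ = (FinFr.ext K a).fromSpecResidueField x ≫ FinFr.extStr K a :=
    ⟨_, Spec.map_preimage _⟩
  have h : ψ ≫ φ = 𝟙 _ := Spec.map_injective (by
    rw [Spec.map_comp, hψ, ← Category.assoc, hφ, pt_str, Spec.map_id])
  have hs : Function.Surjective φ.hom := fun z => ⟨ψ.hom z, ConcreteCategory.congr_hom h z⟩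
  haveI : IsAlgClosed ((FinFr.ext K a).residueField x) :=
    IsAlgClosed.of_ringEquiv K _ (RingEquiv.ofBijective φ.hom ⟨φ.hom.injective, hs⟩).symm
  infer_instance

theorem ext_one_fst :
    inv (FinFr.extStr K (𝟙 (Spec (CommRingCat.of k)))) ≫ FinFr.extπ K (𝟙 _) = FinFr.specι k K := by
  rw [IsIso.inv_comp_eq]
  exact (Category.comp_id _).symm.trans pullback.condition

/-- The geometric point of a rational point. -/
noncomputable def ratPt (x : FinFr.RatPt a) : Spec (CommRingCat.of K) ⟶ FinFr.ext K a :=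
  inv (FinFr.extStr K (𝟙 (Spec (CommRingCat.of k)))) ≫ FinFr.extHom K (𝟙 _) x.1 x.2

theorem ratPt_str (x : FinFr.RatPt a) : ratPt (K := K) a x ≫ FinFr.extStr K a = 𝟙 _ := by
  rw [ratPt, Category.assoc, IsIso.inv_comp_eq]
  exact pullback.lift_snd _ _ _

theorem ratPt_fst (x : FinFr.RatPt a) : ratPt (K := K) a x ≫ FinFr.extπ K a = FinFr.specι k K ≫ x.1 := by
  rw [ratPt, Category.assoc, FinFr.extHom_fst, ← Category.assoc, ext_one_fst]

theorem extHom_galAct (x : FinFr.RatPt a) (σ : K ≃ₐ[k] K) :
    FinFr.extHom K (𝟙 _) x.1 x.2 ≫ FinFr.galAct a σ =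
      FinFr.galAct (𝟙 _) σ ≫ FinFr.extHom K (𝟙 _) x.1 x.2 := by
  apply pullback.hom_ext
  · rw [Category.assoc, Category.assoc, FinFr.galAct_fst, FinFr.extHom_fst, ← Category.assoc, FinFr.galAct_fst]
  · rw [Category.assoc, Category.assoc, FinFr.galAct_snd, ← Category.assoc,
      show FinFr.extHom K (𝟙 _) x.1 x.2 ≫ FinFr.extStr K a = FinFr.extStr K (𝟙 _) from
        (pullback.lift_snd _ _ _).trans (Category.comp_id _), FinFr.galAct_snd]

variable [Fintype k] [Algebra.IsAlgebraic k K]

omit [IsAlgClosed K] in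
theorem mem_range_of_pow_eq (z : K) (hz : z ^ Fintype.card k = z) : z ∈ Set.range (algebraMap k K) := by
  classical
  let P : Polynomial K := Polynomial.X ^ Fintype.card k - Polynomial.X
  have hP : P ≠ 0 := FiniteField.X_pow_card_sub_X_ne_zero K Fintype.one_lt_card
  have hdeg : P.natDegree = Fintype.card k := FiniteField.X_pow_card_sub_X_natDegree_eq K Fintype.one_lt_card
  let S : Finset K := Finset.univ.image (algebraMap k K)
  have hS : S ⊆ P.roots.toFinset := fun w hw => by
    obtain ⟨c, -, rfl⟩ := Finset.mem_image.1 hw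
    rw [Multiset.mem_toFinset, Polynomial.mem_roots hP]
    simp [P, Polynomial.IsRoot, ← map_pow, FiniteField.pow_card]
  have hc : P.roots.toFinset.card ≤ S.card := by
    rw [Finset.card_image_of_injective _ (algebraMap k K).injective, Finset.card_univ, ← hdeg]
    exact (Multiset.toFinset_card_le _).trans (Polynomial.card_roots' P)
  have hz' : z ∈ S := by
    rw [Finset.eq_of_subset_of_card_le hS hc, Multiset.mem_toFinset, Polynomial.mem_roots hP]
    simp [P, Polynomial.IsRoot, hz]
  obtain ⟨c, -, hc⟩ := Finset.mem_image.1 hz'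
  exact ⟨c, hc⟩

theorem exists_ratPt (y : FinFr.ext K a) (hy : FinFr.galAct a (FinFr.arith k K).symm y = y) :
    ∃ x : FinFr.RatPt a, ratPt (K := K) a x default = y := by
  let σ := (FinFr.arith k K).symm
  let S := Spec.map (CommRingCat.ofHom (σ : K →+* K))
  let S' := Spec.map (CommRingCat.ofHom (σ.symm : K →+* K))
  have hS : S' ≫ S = 𝟙 _ := by
    rw [← Spec.map_comp, ← Spec.map_id]
    congr 1
    ext z
    exact σ.symm_apply_apply z
  have hS2 : S ≫ S' = 𝟙 _ := by
    rw [← Spec.map_comp, ← Spec.map_id]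
    congr 1
    ext z
    exact σ.apply_symm_apply z
  let q := S' ≫ pt a y ≫ FinFr.galAct a σ
  have hq : q ≫ FinFr.extStr K a = 𝟙 _ := by
    simp only [q, Category.assoc, FinFr.galAct_snd]
    rw [← Category.assoc (pt a y), pt_str, Category.id_comp, hS]
  have hqd : q default = y := by
    simp only [q, Scheme.Hom.comp_apply]
    rw [Subsingleton.elim (S' default) default, pt_default, hy]
  have hp : pt a y ≫ FinFr.galAct a σ = S ≫ pt a y := by
    have h := eq_pt a q hq
    rw [hqd] at h
    conv_rhs => rw [← h]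
    simp only [q, reassoc_of% hS2]
  let t := pt a y ≫ FinFr.extπ K a
  have ht : S ≫ t = t := by
    simp only [t, ← reassoc_of% hp, FinFr.galAct_fst]
  obtain ⟨⟨y₀, φ⟩, hφ⟩ := (Scheme.SpecToEquivOfField K X₀).symm.surjective t
  change Spec.map φ ≫ X₀.fromSpecResidueField y₀ = t at hφ
  have hfix : ∀ c, σ (φ.hom c) = φ.hom c := fun c => by
    have h1 : φ ≫ CommRingCat.ofHom (σ : K →+* K) = φ := Spec.map_injective
      ((cancel_mono (X₀.fromSpecResidueField y₀)).1 (by rw [Spec.map_comp, Category.assoc, hφ]; exact ht))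
    exact ConcreteCategory.congr_hom h1 c
  have hmem : ∀ c, φ.hom c ∈ (algebraMap k K).range := fun c => by
    refine mem_range_of_pow_eq _ ?_
    have h2 : FinFr.arith k K (φ.hom c) = φ.hom c :=
      ((FinFr.arith k K).symm_apply_eq.1 (hfix c)).symm
    exact h2
  let χ : X₀.residueField y₀ ⟶ CommRingCat.of k := CommRingCat.ofHom
    ((RingEquiv.ofBijective (algebraMap k K).rangeRestrict
      ⟨fun u v h => (algebraMap k K).injective (congrArg Subtype.val h), (algebraMap k K).rangeRestrict_surjective⟩).symm.toRingHom.comp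
        (φ.hom.codRestrict _ hmem))
  have hχ : χ ≫ CommRingCat.ofHom (algebraMap k K) = φ := by
    ext c
    exact congrArg Subtype.val ((RingEquiv.ofBijective (algebraMap k K).rangeRestrict
      ⟨fun u v h => (algebraMap k K).injective (congrArg Subtype.val h), (algebraMap k K).rangeRestrict_surjective⟩).apply_symm_apply
        (φ.hom.codRestrict _ hmem c))
  let x₀ : Spec (CommRingCat.of k) ⟶ X₀ := Spec.map χ ≫ X₀.fromSpecResidueField y₀
  have hx₀ : FinFr.specι k K ≫ x₀ = t := by
    rw [← hφ, ← hχ, Spec.map_comp, Category.assoc]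
  have hxa : x₀ ≫ a = 𝟙 _ := by
    obtain ⟨r, hr⟩ : ∃ r, Spec.map r = x₀ ≫ a := ⟨_, Spec.map_preimage _⟩
    have h3 : r ≫ CommRingCat.ofHom (algebraMap k K) = CommRingCat.ofHom (algebraMap k K) := Spec.map_injective (by
      rw [Spec.map_comp, hr, reassoc_of% hx₀]
      simp only [t, Category.assoc, pullback.condition]
      rw [reassoc_of% (pt_str a y)])
    have h4 : r = 𝟙 _ := CommRingCat.hom_ext (RingHom.ext fun c =>
      (algebraMap k K).injective (ConcreteCategory.congr_hom h3 c))
    rw [← hr, h4, Spec.map_id]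
  refine ⟨⟨x₀, hxa⟩, ?_⟩
  have : ratPt (K := K) a ⟨x₀, hxa⟩ = pt a y :=
    pullback.hom_ext ((ratPt_fst a _).trans hx₀) ((ratPt_str a _).trans (pt_str a y).symm)
  rw [this, pt_default]

theorem ratPt_injective : Function.Injective fun x : FinFr.RatPt a => ratPt (K := K) a x default := by
  intro x x' h
  have e : ratPt (K := K) a x = ratPt a x' := by
    rw [eq_pt a _ (ratPt_str a x), eq_pt a _ (ratPt_str a x')]
    exact congrArg (pt a) h
  have e2 : FinFr.specι k K ≫ x.1 = FinFr.specι k K ≫ x'.1 := by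
    rw [← ratPt_fst, ← ratPt_fst, e]
  haveI : Flat (FinFr.specι k K) := Flat.SpecMap_iff.2 (RingHom.flat_algebraMap_iff.2 inferInstance)
  haveI : Surjective (FinFr.specι k K) := ⟨fun z => ⟨default, Subsingleton.elim _ _⟩⟩
  haveI : Epi (FinFr.specι k K) := Flat.epi_of_flat_of_surjective _
  exact Subtype.ext ((cancel_epi (FinFr.specι k K)).1 e2)

theorem galAct_ratPt (x : FinFr.RatPt a) (σ : K ≃ₐ[k] K) :
    FinFr.galAct a σ (ratPt (K := K) a x default) = ratPt (K := K) a x default := by
  rw [← Scheme.Hom.comp_apply, ratPt, Category.assoc, extHom_galAct, Scheme.Hom.comp_apply, Scheme.Hom.comp_apply,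
    Scheme.Hom.comp_apply]
  refine congrArg _ ?_
  refine (inv (FinFr.extStr K (𝟙 (Spec (CommRingCat.of k))))).homeomorph.symm.injective ?_
  exact Subsingleton.elim _ _

end Groth.Agent.Et18.TraceZero
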