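import Groth.Agent.Et18.TraceZero.Germ0
import Groth.Agent.Et18.TraceZero.Pts
import Groth.Agent.EtZeroDim.Vanish
import Groth.Agent.Et18.Stalk

/-!
# The trace formula in dimension zero
-/

set_option autoImplicit false
set_option linter.all false
set_option backward.isDefEq.respectTransparency.types false
set_option backward.isDefEq.respectTransparency false
set_option synthInstance.maxHeartbeats 400000
set_option maxHeartbeats 1000000

universe u

open CategoryTheory CategoryTheory.Limits CategoryTheory.Abelian AlgebraicGeometry Opposite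
open scoped BigOperators

namespace Groth.Agent.Et18.TraceZero

section Linear

variable {Λ : Type*} [Field Λ] {V : Type*} [AddCommGroup V] [Module Λ V] {ι : Type*} [Fintype ι] [DecidableEq ι]
  {W : ι → Type*} [∀ i, AddCommGroup (W i)] [∀ i, Module Λ (W i)] [∀ i, Module.Finite Λ (W i)]

theorem trace_eq_sum_diag (ρ : V ≃ₗ[Λ] ∀ i, W i) (g : V →ₗ[Λ] V) :
    LinearMap.trace Λ V g = ∑ i, LinearMap.trace Λ (W i)
      (LinearMap.proj i ∘ₗ ρ.toLinearMap ∘ₗ g ∘ₗ ρ.symm.toLinearMap ∘ₗ LinearMap.single Λ W i) := by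
  rw [← LinearMap.trace_conj' g ρ]
  have hsum : ρ.conj g = ∑ i, LinearMap.single Λ W i ∘ₗ (LinearMap.proj i ∘ₗ ρ.conj g) := by
    refine LinearMap.ext fun v => funext fun j => ?_
    simp [LinearMap.sum_apply, Finset.sum_apply, Pi.single_apply]
  conv_lhs => rw [hsum, map_sum]
  refine Finset.sum_congr rfl fun i _ => ?_
  rw [LinearMap.trace_comp_comm']
  rfl

end Linear

variable {X : Scheme.{u}} {Λ : Type} [CommRing Λ]

theorem smul_eq {L : EtLam.Sheaf Λ X} (n : ℕ) (r : Λ) (x : EtCoh.H X L.carrier n) :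
    r • x = Sheaf.H.map (L.act r) n x := rfl

/-- A morphism compatible with the actions, on cohomology. -/
noncomputable def hmap {L L' : EtLam.Sheaf Λ X} (φ : L.carrier ⟶ L'.carrier)
    (h : ∀ r, L.act r ≫ φ = φ ≫ L'.act r) (n : ℕ) :
    EtCoh.H X L.carrier n →ₗ[Λ] EtCoh.H X L'.carrier n where
  toFun := Sheaf.H.map φ n
  map_add' x y := map_add _ x y
  map_smul' r x := by
    change Sheaf.H.map φ n (Sheaf.H.map (L.act r) n x) = Sheaf.H.map (L'.act r) n (Sheaf.H.map φ n x)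
    rw [← Sheaf.H.map_comp_apply, ← Sheaf.H.map_comp_apply]
    exact congrArg (fun m => Sheaf.H.map m n x) (h r)

/-- An isomorphism compatible with the actions, on cohomology. -/
noncomputable def hequiv {L L' : EtLam.Sheaf Λ X} (φ : L.carrier ≅ L'.carrier)
    (h : ∀ r, L.act r ≫ φ.hom = φ.hom ≫ L'.act r) (n : ℕ) :
    EtCoh.H X L.carrier n ≃ₗ[Λ] EtCoh.H X L'.carrier n :=
  LinearEquiv.ofBijective (hmap φ.hom h n) (by
    have hb : Function.Bijective ((EtCoh.HF X n).map φ.hom) := ConcreteCategory.bijective_of_isIso _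
    exact hb)

theorem map_iso_compat {Y : Scheme.{u}} (f : Y ⟶ X) {L L' : EtLam.Sheaf Λ X} (φ : L.carrier ≅ L'.carrier)
    (h : ∀ r, L.act r ≫ φ.hom = φ.hom ≫ L'.act r) (r : Λ) :
    (EtLam.pullback f L).act r ≫ ((EtCoh.pull f).mapIso φ).hom =
      ((EtCoh.pull f).mapIso φ).hom ≫ (EtLam.pullback f L').act r := by
  change (EtCoh.pull f).map (L.act r) ≫ (EtCoh.pull f).map φ.hom = (EtCoh.pull f).map φ.hom ≫ (EtCoh.pull f).map (L'.act r)
  rw [← Functor.map_comp, ← Functor.map_comp, h r]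

variable [Fact FinFr.PullExact.{u}]

/-- Restriction of classes. -/
noncomputable def res {P W : Scheme.{u}} (s : P ⟶ X) (t : X ⟶ W) (f₀ : P ⟶ W) (w : s ≫ t = f₀)
    (L : EtLam.Sheaf Λ W) :
    EtCoh.H X (EtLam.pullback t L).carrier 0 →ₗ[Λ] EtCoh.H P (EtLam.pullback f₀ L).carrier 0 :=
  haveI := FinFr.pullExact_out s
  { toFun := EtCore.HpullVia s t f₀ w L.carrier 0
    map_add' := fun x y => map_add _ x y
    map_smul' := fun r x => EtCore.HpullVia_natural _ _ _ _ (L.act r) 0 x }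

/-- `(π ≫ x)⁻¹ ≅ π⁻¹ x⁻¹`, with actions. -/
theorem compCompat {P Q W : Scheme.{u}} (π : P ⟶ Q) (x : Q ⟶ W) {f₀ : P ⟶ W} (e : f₀ = π ≫ x)
    (L : EtLam.Sheaf Λ W) (r : Λ) :
    (EtLam.pullback f₀ L).act r ≫ ((EtCore.pullCongr e ≪≫ EtCore.pullComp π x).app L.carrier).hom =
      ((EtCore.pullCongr e ≪≫ EtCore.pullComp π x).app L.carrier).hom ≫
        (EtLam.pullback π (EtLam.pullback x L)).act r :=
  (EtCore.pullCongr e ≪≫ EtCore.pullComp π x).hom.naturality (L.act r)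

theorem galLin_conj {k K : Type u} [Field k] [Field K] [Algebra k K] {X₀ : Scheme.{u}}
    (a : X₀ ⟶ Spec (CommRingCat.of k)) (σ : K ≃ₐ[k] K) {L L' : EtLam.Sheaf Λ X₀} (φ : L.carrier ≅ L'.carrier)
    (h : ∀ r, L.act r ≫ φ.hom = φ.hom ≫ L'.act r) (n : ℕ) :
    LinearMap.trace Λ _ (FinFr.galLin a σ L n) = LinearMap.trace Λ _ (FinFr.galLin a σ L' n) := by
  let E := hequiv (L := EtLam.pullback (FinFr.extπ K a) L) (L' := EtLam.pullback (FinFr.extπ K a) L')
    ((EtCoh.pull (FinFr.extπ K a)).mapIso φ) (map_iso_compat (FinFr.extπ K a) φ h) n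
  rw [← LinearMap.trace_conj' (FinFr.galLin a σ L n) E]
  congr 1
  refine LinearMap.ext fun y => ?_
  obtain ⟨x, rfl⟩ := E.surjective y
  rw [LinearEquiv.conj_apply_apply, LinearEquiv.symm_apply_apply]
  haveI := FinFr.pullExact_out (FinFr.galAct a σ)
  exact (EtCore.HpullVia_natural _ _ _ _ φ.hom n x).symm

section Formula

variable {k K : Type u} [Field k] [Fintype k] [Field K] [Algebra k K] [IsAlgClosed K] [Algebra.IsAlgebraic k K]
  {F : Type} [Field F] {X₀ : Scheme.{u}} (a : X₀ ⟶ Spec (CommRingCat.of k)) [IsFinite a] (L : EtLam.Sheaf F X₀)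

variable (k K) in
/-- The geometric point of the base. -/
noncomputable def e₁ : Spec (CommRingCat.of K) ⟶ FinFr.ext K (𝟙 (Spec (CommRingCat.of k))) :=
  inv (FinFr.extStr K (𝟙 _))

instance : IsIso (e₁ k K) := by unfold e₁; infer_instance

variable (K) in
/-- The component of cohomology at a point. -/
abbrev Comp (y : FinFr.ext K a) : Type (u + 1) :=
  EtCoh.H (FinFr.ext K (𝟙 (Spec (CommRingCat.of k))))
    (EtLam.pullback ((FinFr.extStr K (𝟙 _) ≫ pt a y) ≫ FinFr.extπ K a) L).carrier 0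

/-- Restriction to the component at a point. -/
noncomputable def toComp (y : FinFr.ext K a) :
    EtCoh.H (FinFr.ext K a) (EtLam.pullback (FinFr.extπ K a) L).carrier 0 →ₗ[F] Comp K a L y :=
  res (FinFr.extStr K (𝟙 _) ≫ pt a y) (FinFr.extπ K a) _ rfl L

omit [Fintype k] [Algebra.IsAlgebraic k K] in
theorem e₁_str : e₁ k K ≫ FinFr.extStr K (𝟙 _) = 𝟙 _ := IsIso.inv_hom_id _

omit [Fintype k] [Algebra.IsAlgebraic k K] in
theorem e₁_pt (y : FinFr.ext K a) : e₁ k K ≫ FinFr.extStr K (𝟙 _) ≫ pt a y = pt a y := by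
  rw [← Category.assoc, e₁_str, Category.id_comp]

omit [Fintype k] [Algebra.IsAlgebraic k K] in
theorem e₁_pt_π (y : FinFr.ext K a) :
    e₁ k K ≫ (FinFr.extStr K (𝟙 _) ≫ pt a y) ≫ FinFr.extπ K a = pt a y ≫ FinFr.extπ K a := by
  rw [← Category.assoc, e₁_pt]

theorem gev_toComp (y : FinFr.ext K a) (v : EtCoh.H (FinFr.ext K a) (EtLam.pullback (FinFr.extπ K a) L).carrier 0)
    (e : (EtCoh.stalk (pt a y ≫ FinFr.extπ K a)).obj L.carrier)
    (he : gev (pt a y) _ v = toPull (FinFr.extπ K a) _ ⟨pt a y, rfl⟩ L.carrier e) :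
    gev (e₁ k K) _ (toComp a L y v) = toPull _ _ ⟨e₁ k K, e₁_pt_π a y⟩ L.carrier e :=
  haveI := FinFr.pullExact_out (FinFr.extStr K (𝟙 (Spec (CommRingCat.of k))) ≫ pt a y)
  gev_HpullVia _ _ _ rfl L.carrier (e₁ k K) (e₁_pt a y) rfl (e₁_pt_π a y) v e he

theorem toComp_eq_zero_iff (y : FinFr.ext K a)
    (v : EtCoh.H (FinFr.ext K a) (EtLam.pullback (FinFr.extπ K a) L).carrier 0) :
    toComp a L y v = 0 ↔ gev (pt a y) _ v = 0 := by
  obtain ⟨e, he⟩ := (H0Lift.bijective_toPull (FinFr.extπ K a) ⟨pt a y, rfl⟩ L.carrier).2 (gev (pt a y) _ v)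
  have h := gev_toComp a L y v e he.symm
  constructor
  · intro h0
    rw [h0, map_zero] at h
    refine he.symm.trans ?_
    rw [(injective_iff_map_eq_zero _).1 (H0Lift.bijective_toPull _ ⟨e₁ k K, e₁_pt_π a y⟩ L.carrier).1 e h.symm,
      map_zero]
  · intro h0
    have e0 : e = 0 :=
      (injective_iff_map_eq_zero _).1 (H0Lift.bijective_toPull (FinFr.extπ K a) ⟨pt a y, rfl⟩ L.carrier).1 e
        (he.trans h0)
    rw [e0, map_zero] at h
    exact (injective_iff_map_eq_zero _).1 (gev_bijective (e₁ k K) _).1 _ h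

theorem eq_zero_of_toComp (v : EtCoh.H (FinFr.ext K a) (EtLam.pullback (FinFr.extπ K a) L).carrier 0)
    (h : ∀ y, toComp a L y v = 0) : v = 0 :=
  eq_zero_of_gev _ (pt a) (pt_default a) v fun y => (toComp_eq_zero_iff a L y v).1 (h y)

theorem exists_toComp_eq (y : FinFr.ext K a) (w : Comp K a L y) :
    ∃ v, toComp a L y v = w ∧ ∀ z, z ≠ y → toComp a L z v = 0 := by
  obtain ⟨e, he⟩ := (H0Lift.bijective_toPull _ ⟨e₁ k K, e₁_pt_π a y⟩ L.carrier).2 (gev (e₁ k K) _ w)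
  obtain ⟨v, hv, hv0⟩ := exists_gev_eq (isSepClosed_residueField a) (pt a y)
    ((EtCoh.pull (FinFr.extπ K a)).obj L.carrier) (toPull (FinFr.extπ K a) _ ⟨pt a y, rfl⟩ L.carrier e)
  refine ⟨v, (gev_bijective (e₁ k K) _).1 ((gev_toComp a L y v e hv).trans he), fun z hz => ?_⟩
  exact (toComp_eq_zero_iff a L z v).2 (hv0 _ (by rw [pt_default, pt_default]; exact hz))

theorem bijective_toComp : Function.Bijective (LinearMap.pi (toComp (K := K) a L)) := by
  classical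
  haveI := Fintype.ofFinite (FinFr.ext K a)
  refine ⟨(injective_iff_map_eq_zero _).2 fun v hv => eq_zero_of_toComp a L v fun y => congrFun hv y,
    fun w => ?_⟩
  choose v hv hv0 using fun y => exists_toComp_eq a L y (w y)
  refine ⟨∑ y, v y, funext fun z => ?_⟩
  rw [LinearMap.pi_apply, map_sum, Finset.sum_eq_single z (fun y _ hy => hv0 y z (Ne.symm hy))
    (fun h => absurd (Finset.mem_univ z) h), hv]

/-- The decomposition of degree zero cohomology along the points. -/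
noncomputable def decomp :
    EtCoh.H (FinFr.ext K a) (EtLam.pullback (FinFr.extπ K a) L).carrier 0 ≃ₗ[F] ∀ y, Comp K a L y :=
  LinearEquiv.ofBijective _ (bijective_toComp a L)

theorem toComp_frob_eq_zero (y : FinFr.ext K a) (σ : K ≃ₐ[k] K)
    (v : EtCoh.H (FinFr.ext K a) (EtLam.pullback (FinFr.extπ K a) L).carrier 0)
    (h : toComp a L (FinFr.galAct a σ y) v = 0) : toComp a L y (FinFr.galLin a σ L 0 v) = 0 := by
  haveI := FinFr.pullExact_out (FinFr.galAct a σ)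
  have hb : (pt a y ≫ FinFr.galAct a σ) ≫ FinFr.extπ K a = pt a y ≫ FinFr.extπ K a := by
    rw [Category.assoc, FinFr.galAct_fst]
  have h0 : gev (pt a y ≫ FinFr.galAct a σ) _ v = 0 := by
    refine (gev_eq_zero_congr _ (pt a (FinFr.galAct a σ y)) ?_ _ v).2 ((toComp_eq_zero_iff a L _ v).1 h)
    rw [pt_default, Scheme.Hom.comp_apply, pt_default]
  refine (toComp_eq_zero_iff a L y _).2 ((gev_HpullVia (FinFr.galAct a σ) (FinFr.extπ K a) (FinFr.extπ K a)
    (FinFr.galAct_fst a σ) L.carrier (pt a y) rfl hb rfl v 0 ?_).trans (map_zero _))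
  exact h0.trans (map_zero _).symm

/-- Restriction to a rational point. -/
noncomputable def toRat (x : FinFr.RatPt a) :
    EtCoh.H (FinFr.ext K a) (EtLam.pullback (FinFr.extπ K a) L).carrier 0 →ₗ[F]
      EtCoh.H (FinFr.ext K (𝟙 (Spec (CommRingCat.of k))))
        (EtLam.pullback (FinFr.extπ K (𝟙 _)) (EtLam.pullback x.1 L)).carrier 0 :=
  (hequiv ((EtCore.pullCongr rfl ≪≫ EtCore.pullComp (FinFr.extπ K (𝟙 _)) x.1).app L.carrier)
      (compCompat (FinFr.extπ K (𝟙 _)) x.1 rfl L) 0).toLinearMap ∘ₗ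
    res (FinFr.extHom K (𝟙 _) x.1 x.2) (FinFr.extπ K a) (FinFr.extπ K (𝟙 _) ≫ x.1) (FinFr.extHom_fst (𝟙 _) x.1 x.2) L

theorem gev_toRat (x : FinFr.RatPt a) (v : EtCoh.H (FinFr.ext K a) (EtLam.pullback (FinFr.extπ K a) L).carrier 0)
    (ξ : Spec (CommRingCat.of K) ⟶ FinFr.ext K (𝟙 (Spec (CommRingCat.of k))))
    {η₁ : Spec (CommRingCat.of K) ⟶ Spec (CommRingCat.of k)} {η : Spec (CommRingCat.of K) ⟶ X₀}
    (h₁ : ξ ≫ FinFr.extπ K (𝟙 _) = η₁) (h₂ : η₁ ≫ x.1 = η)
    (h₃ : (ξ ≫ FinFr.extHom K (𝟙 _) x.1 x.2) ≫ FinFr.extπ K a = η)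
    (e : (EtCoh.stalk η).obj L.carrier)
    (he : gev (ξ ≫ FinFr.extHom K (𝟙 _) x.1 x.2) _ v =
      toPull (FinFr.extπ K a) η ⟨_, h₃⟩ L.carrier e) :
    gev ξ _ (toRat a L x v) =
      toPull (FinFr.extπ K (𝟙 _)) η₁ ⟨ξ, h₁⟩ ((EtCoh.pull x.1).obj L.carrier) (toPull x.1 η ⟨η₁, h₂⟩ L.carrier e) := by
  haveI := FinFr.pullExact_out (FinFr.extHom (K := K) (𝟙 _) x.1 x.2)
  have hc : ξ ≫ FinFr.extπ K (𝟙 _) ≫ x.1 = η := by rw [reassoc_of% h₁, h₂]
  refine (gev_map ξ _ _).trans ?_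
  refine (congrArg _ (gev_HpullVia (FinFr.extHom K (𝟙 _) x.1 x.2) (FinFr.extπ K a) (FinFr.extπ K (𝟙 _) ≫ x.1)
    (FinFr.extHom_fst (𝟙 _) x.1 x.2) L.carrier ξ rfl h₃ hc v e he)).trans ?_
  rw [Iso.app_hom, Iso.trans_hom, NatTrans.comp_app, Functor.map_comp]
  refine (ConcreteCategory.comp_apply _ _ _).trans ?_
  refine (congrArg _ (FlatTrace.stalk_pullCongr rfl L.carrier ξ hc hc e)).trans ?_
  exact FlatTrace.stalk_pullComp (FinFr.extπ K (𝟙 _)) x.1 L.carrier ξ h₁ h₂ hc e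

theorem toRat_eq_zero_iff (x : FinFr.RatPt a)
    (v : EtCoh.H (FinFr.ext K a) (EtLam.pullback (FinFr.extπ K a) L).carrier 0) :
    toRat a L x v = 0 ↔ gev (ratPt (K := K) a x) _ v = 0 := by
  obtain ⟨e, he⟩ := (H0Lift.bijective_toPull (FinFr.extπ K a) ⟨ratPt (K := K) a x, rfl⟩ L.carrier).2 (gev _ _ v)
  have h2 : (e₁ k K ≫ FinFr.extπ K (𝟙 _)) ≫ x.1 = ratPt (K := K) a x ≫ FinFr.extπ K a := by
    rw [ratPt_fst, e₁, ext_one_fst]
  have h := gev_toRat a L x v (e₁ k K) rfl h2 rfl e he.symm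
  have hinj : ∀ z, toPull (FinFr.extπ K (𝟙 _)) _ ⟨e₁ k K, rfl⟩ ((EtCoh.pull x.1).obj L.carrier)
      (toPull x.1 _ ⟨_, h2⟩ L.carrier z) = 0 → z = 0 := fun z hz =>
    (injective_iff_map_eq_zero _).1 (H0Lift.bijective_toPull x.1 ⟨_, h2⟩ L.carrier).1 z
      ((injective_iff_map_eq_zero _).1 (H0Lift.bijective_toPull (FinFr.extπ K (𝟙 _)) ⟨e₁ k K, rfl⟩ _).1 _ hz)
  constructor
  · intro h0
    rw [h0, map_zero] at h
    refine he.symm.trans ?_
    rw [hinj e h.symm, map_zero]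
  · intro h0
    have e0 : e = 0 := (injective_iff_map_eq_zero _).1
      (H0Lift.bijective_toPull (FinFr.extπ K a) ⟨ratPt (K := K) a x, rfl⟩ L.carrier).1 e (he.trans h0)
    rw [e0, map_zero, map_zero] at h
    exact (injective_iff_map_eq_zero _).1 (gev_bijective (e₁ k K) _).1 _ h

theorem toRat_frob (x : FinFr.RatPt a) (σ : K ≃ₐ[k] K)
    (v : EtCoh.H (FinFr.ext K a) (EtLam.pullback (FinFr.extπ K a) L).carrier 0) :
    toRat a L x (FinFr.galLin a σ L 0 v) =
      FinFr.galLin (𝟙 _) σ (EtLam.pullback x.1 L) 0 (toRat a L x v) := by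
  haveI := FinFr.pullExact_out (FinFr.galAct a σ)
  haveI := FinFr.pullExact_out (FinFr.galAct (𝟙 (Spec (CommRingCat.of k))) σ)
  refine (gev_bijective (e₁ k K) _).1 ?_
  let ξ := e₁ k K ≫ FinFr.galAct (𝟙 _) σ
  let p := ξ ≫ FinFr.extHom K (𝟙 _) x.1 x.2
  let η₁ := e₁ k K ≫ FinFr.extπ K (𝟙 _)
  have g1 : ξ ≫ FinFr.extπ K (𝟙 _) = η₁ := by simp only [ξ, η₁, Category.assoc, FinFr.galAct_fst]
  have g2 : (e₁ k K ≫ FinFr.extHom K (𝟙 _) x.1 x.2) ≫ FinFr.galAct a σ = p := by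
    simp only [p, ξ, Category.assoc, extHom_galAct]
  have g3 : p ≫ FinFr.extπ K a = η₁ ≫ x.1 := by
    simp only [p, Category.assoc, FinFr.extHom_fst]
    rw [← Category.assoc, g1]
  have g4 : (e₁ k K ≫ FinFr.extHom K (𝟙 _) x.1 x.2) ≫ FinFr.extπ K a = η₁ ≫ x.1 := by
    simp only [η₁, Category.assoc, FinFr.extHom_fst]
  obtain ⟨e, he⟩ := (H0Lift.bijective_toPull (FinFr.extπ K a) ⟨p, g3⟩ L.carrier).2 (gev p _ v)
  have hl := gev_HpullVia (FinFr.galAct a σ) (FinFr.extπ K a) (FinFr.extπ K a) (FinFr.galAct_fst a σ) L.carrier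
    (e₁ k K ≫ FinFr.extHom K (𝟙 _) x.1 x.2) g2 g3 g4 v e he.symm
  refine (gev_toRat a L x _ (e₁ k K) rfl rfl g4 e hl).trans (Eq.symm ?_)
  exact gev_HpullVia (FinFr.galAct (𝟙 _) σ) (FinFr.extπ K (𝟙 _)) (FinFr.extπ K (𝟙 _)) (FinFr.galAct_fst _ σ)
    ((EtCoh.pull x.1).obj L.carrier) (e₁ k K) rfl g1 rfl _ _ (gev_toRat a L x v ξ g1 rfl g3 e he.symm)

/-- The component at a rational point is the local fibre. -/
theorem trace_diag_ratPt [∀ y, Module.Finite F (Comp K a L y)] [DecidableEq (FinFr.ext K a)]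
    (x : FinFr.RatPt a) (σ : K ≃ₐ[k] K) (y : FinFr.ext K a) (hy : ratPt (K := K) a x default = y) :
    LinearMap.trace F _ (LinearMap.proj y ∘ₗ (decomp a L).toLinearMap ∘ₗ FinFr.galLin a σ L 0 ∘ₗ
        (decomp a L).symm.toLinearMap ∘ₗ LinearMap.single F (Comp K a L) y) =
      LinearMap.trace F _ (FinFr.galLin (𝟙 _) σ (EtLam.pullback x.1 L) 0) := by
  let S : Comp K a L y →ₗ[F] _ := (decomp a L).symm.toLinearMap ∘ₗ LinearMap.single F (Comp K a L) y
  have hS : ∀ w z, toComp a L z (S w) = LinearMap.single F (Comp K a L) y w z := fun w z =>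
    congrFun ((decomp a L).apply_symm_apply _) z
  have hp : pt a y = ratPt (K := K) a x := by
    rw [eq_pt a _ (ratPt_str a x), hy]
  have hker : ∀ v, toComp a L y v = 0 ↔ toRat a L x v = 0 := fun v => by
    rw [toComp_eq_zero_iff, toRat_eq_zero_iff, hp]
  have hsec : ∀ v, toRat a L x (S (toComp a L y v)) = toRat a L x v := fun v => by
    rw [← sub_eq_zero, ← map_sub, ← hker, map_sub, hS, LinearMap.single_apply, Pi.single_eq_same, sub_self]
  have hE : Function.Bijective (toRat a L x ∘ₗ S) := by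
    refine ⟨(injective_iff_map_eq_zero _).2 fun w hw => ?_, fun w => ?_⟩
    · have h := (hker (S w)).2 hw
      rwa [hS, LinearMap.single_apply, Pi.single_eq_same] at h
    · obtain ⟨e, he⟩ := (H0Lift.bijective_toPull (FinFr.extπ K (𝟙 _)) ⟨e₁ k K, rfl⟩ ((EtCoh.pull x.1).obj L.carrier)).2
        (gev (e₁ k K) _ w)
      obtain ⟨e', rfl⟩ := (H0Lift.bijective_toPull x.1 ⟨e₁ k K ≫ FinFr.extπ K (𝟙 _), rfl⟩ L.carrier).2 e
      have h3 : (e₁ k K ≫ FinFr.extHom K (𝟙 _) x.1 x.2) ≫ FinFr.extπ K a =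
          (e₁ k K ≫ FinFr.extπ K (𝟙 _)) ≫ x.1 := by simp only [Category.assoc, FinFr.extHom_fst]
      obtain ⟨v, hv, -⟩ := exists_gev_eq (isSepClosed_residueField a) (e₁ k K ≫ FinFr.extHom K (𝟙 _) x.1 x.2)
        ((EtCoh.pull (FinFr.extπ K a)).obj L.carrier) (toPull (FinFr.extπ K a) _ ⟨_, h3⟩ L.carrier e')
      refine ⟨toComp a L y v, (hsec v).trans ((gev_bijective (e₁ k K) _).1 ?_)⟩
      exact (gev_toRat a L x v (e₁ k K) rfl rfl h3 e' hv).trans he
  let E := LinearEquiv.ofBijective _ hE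
  rw [← LinearMap.trace_conj' _ E]
  congr 1
  refine LinearMap.ext fun w => ?_
  obtain ⟨w, rfl⟩ := E.surjective w
  rw [LinearEquiv.conj_apply_apply, LinearEquiv.symm_apply_apply]
  exact (hsec (FinFr.galLin a σ L 0 (S w))).trans (toRat_frob a L x σ (S w))

theorem trace_formula [∀ y, Module.Finite F (Comp K a L y)] :
    ∑ᶠ x : FinFr.RatPt a, FinFr.locTrace (K := K) x.1 L =
      ∑ᶠ i : ℕ, (-1 : F) ^ i * LinearMap.trace F _ (FinFr.frob (K := K) a L i) := by
  classical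
  haveI := Fintype.ofFinite (FinFr.ext K a)
  let σ := (FinFr.arith k K).symm
  have hvan : ∀ i : ℕ, i ≠ 0 → (-1 : F) ^ i * LinearMap.trace F _ (FinFr.frob (K := K) a L i) = 0 := fun i hi => by
    obtain ⟨n, rfl⟩ := Nat.exists_eq_succ_of_ne_zero hi
    haveI : Subsingleton (EtCoh.H (FinFr.ext K a) (EtLam.pullback (FinFr.extπ K a) L).carrier (n + 1)) :=
      EtZeroDim.subsingleton_ext (fun y => isClosed_discrete _) (isSepClosed_residueField a) _ n
    rw [Subsingleton.elim (FinFr.frob (K := K) a L (n + 1)) 0, map_zero, mul_zero]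
  rw [finsum_eq_single _ 0 hvan, pow_zero, one_mul, trace_eq_sum_diag (decomp a L)]
  let T : FinFr.ext K a → F := fun y => LinearMap.trace F _ (LinearMap.proj y ∘ₗ (decomp a L).toLinearMap ∘ₗ
    FinFr.galLin a σ L 0 ∘ₗ (decomp a L).symm.toLinearMap ∘ₗ LinearMap.single F (Comp K a L) y)
  have hT : Function.support T ⊆ Set.range fun x : FinFr.RatPt a => ratPt (K := K) a x default := fun y hy => by
    by_contra hr
    refine hy ?_
    have hne : FinFr.galAct a σ y ≠ y := fun h => hr (exists_ratPt a y h)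
    have h0 : LinearMap.proj y ∘ₗ (decomp a L).toLinearMap ∘ₗ FinFr.galLin a σ L 0 ∘ₗ
        (decomp a L).symm.toLinearMap ∘ₗ LinearMap.single F (Comp K a L) y = 0 := by
      refine LinearMap.ext fun w => toComp_frob_eq_zero a L y σ _ ?_
      refine (congrFun ((decomp a L).apply_symm_apply _) _).trans ?_
      rw [LinearMap.single_apply, Pi.single_eq_of_ne hne]
    simp only [T, h0, map_zero]
  show _ = ∑ y, T y
  rw [← finsum_eq_sum_of_fintype, ← finsum_mem_univ T,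
    ← finsum_mem_inter_support_eq T (Set.range fun x : FinFr.RatPt a => ratPt (K := K) a x default) Set.univ
      (by rw [Set.inter_eq_right.2 hT, Set.univ_inter]),
    finsum_mem_range (ratPt_injective a)]
  exact finsum_congr fun x => (trace_diag_ratPt a L x σ _ rfl).symm

end Formula

end Groth.Agent.Et18.TraceZero
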